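import Groth.Agent.RadBoundLib.Syzygy

/-!
# Uniform bounds: universal families, syzygies over fields, contraction along finite field extensions
-/

universe u
set_option autoImplicit false
set_option linter.unusedSectionVars false
open MvPolynomial

namespace Groth.Agent.RadBoundLib

variable {N : ℕ}

/-- The universal family of finitely many polynomials of bounded degree. -/
theorem exists_universal (R : ℕ) (I : Type) [Finite I] :
    ∃ (P : Type u) (_ : CommRing P) (_ : IsNoetherianRing P) (G : I → MvPolynomial (Fin N) P),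
      ∀ (k : Type u) [Field k] (g : I → MvPolynomial (Fin N) k), (∀ i, (g i).totalDegree ≤ R) →
        ∃ φ : P →+* k, ∀ i, MvPolynomial.map φ (G i) = g i := by
  classical
  let Mon : Finset (Fin N →₀ ℕ) := Finset.Iic (Finsupp.equivFunOnFinite.symm fun _ : Fin N => R)
  have : IsNoetherianRing (ULift.{u} ℤ) := isNoetherianRing_of_ringEquiv ℤ ULift.ringEquiv.symm
  refine ⟨MvPolynomial (I × Mon) (ULift.{u} ℤ), inferInstance, inferInstance,
    fun i => ∑ μ : Mon, monomial μ.1 (X (i, μ)), fun k _ g hg => ?_⟩
  refine ⟨eval₂Hom ((Int.castRingHom k).comp (ULift.ringEquiv : ULift.{u} ℤ ≃+* ℤ).toRingHom)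
    fun x => (g x.1).coeff x.2.1, fun i => ?_⟩
  rw [map_sum]
  simp only [map_monomial, eval₂Hom_X']
  rw [Finset.sum_coe_sort Mon fun μ => monomial μ ((g i).coeff μ)]
  conv_rhs => rw [(g i).as_sum]
  refine (Finset.sum_subset (fun μ hμ => ?_) fun μ _ hμ => by
    rw [notMem_support_iff.1 hμ, map_zero]).symm
  refine Finset.mem_Iic.2 fun j => ?_
  rw [Finsupp.equivFunOnFinite_symm_apply_apply]
  by_cases hj : j ∈ μ.support
  · exact ((Finset.single_le_sum (f := fun j => μ j) (fun _ _ => Nat.zero_le _) hj).trans
      (le_totalDegree hμ)).trans (hg i)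
  · rw [Finsupp.notMem_support_iff.1 hj]; exact Nat.zero_le _

/-- Over all fields the syzygies of matrices of bounded size and degree are generated in bounded degree. -/
theorem exists_syzygy_bound (ι κ : Type) [Fintype ι] [Fintype κ] (R : ℕ) :
    ∃ B : ℕ, ∀ (k : Type u) [Field k] (M : Matrix κ ι (MvPolynomial (Fin N) k)),
      (∀ d e, (M d e).totalDegree ≤ R) → ∀ v : ι → MvPolynomial (Fin N) k, M.mulVec v = 0 →
        v ∈ Submodule.span (MvPolynomial (Fin N) k)
          {w : ι → MvPolynomial (Fin N) k | M.mulVec w = 0 ∧ ∀ e, (w e).totalDegree ≤ B} := by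
  classical
  obtain ⟨P, _, _, G, hG⟩ := exists_universal.{u} (N := N) R (κ × ι)
  let Q : ∀ (k : Type u) [Field k], (P →+* k) → ℕ → Prop := fun k _ φ B =>
    ∀ v : ι → MvPolynomial (Fin N) k, (Matrix.of fun d e => MvPolynomial.map φ (G (d, e))).mulVec v = 0 →
      v ∈ Submodule.span (MvPolynomial (Fin N) k) {w : ι → MvPolynomial (Fin N) k |
        (Matrix.of fun d e => MvPolynomial.map φ (G (d, e))).mulVec w = 0 ∧ ∀ e, (w e).totalDegree ≤ B}
  obtain ⟨B, hB⟩ := exists_bound_of_generic Q
    (fun k _ φ a b hab h => by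
      intro v hv
      refine Submodule.span_mono ?_ (h v hv)
      intro w hw
      exact ⟨hw.1, fun e => (hw.2 e).trans hab⟩)
    (fun a ha => by
      have := ha
      obtain ⟨f, hf, B, hB⟩ := exists_syzygy_bound_generic (σ := Fin N) (P ⧸ a)
        (Matrix.of fun d e => MvPolynomial.map (Ideal.Quotient.mk a) (G (d, e)) : Matrix κ ι _)
      refine ⟨f, hf, B, fun k _ ψ hψ => ?_⟩
      let := ψ.toAlgebra
      have h := hB k hψ
      have e : ((Matrix.of fun d e => MvPolynomial.map (Ideal.Quotient.mk a) (G (d, e)) : Matrix κ ι _).map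
          (MvPolynomial.map (algebraMap (P ⧸ a) k))) =
          Matrix.of fun d e => MvPolynomial.map (ψ.comp (Ideal.Quotient.mk a)) (G (d, e)) := by
        ext d e : 1
        exact MvPolynomial.map_map _ _ _
      rw [e] at h
      exact h)
  refine ⟨B, fun k _ M hM => ?_⟩
  obtain ⟨φ, hφ⟩ := hG k (fun x => M x.1 x.2) fun x => hM x.1 x.2
  have e : (Matrix.of fun d e => MvPolynomial.map φ (G (d, e))) = M := by
    ext d e : 1
    exact hφ (d, e)
  have h := hB k φ
  simp only [Q, e] at h
  exact h

section coord

variable {k K : Type u} [Field k] [Field K] [Algebra k K] {ν : Type} [Fintype ν] (b : Module.Basis ν k K)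

/-- The coordinates of a polynomial over a finite extension. -/
noncomputable def coord (l : ν) (p : MvPolynomial (Fin N) K) : MvPolynomial (Fin N) k :=
  ∑ μ ∈ p.support, monomial μ (b.repr (p.coeff μ) l)

@[simp] theorem coeff_coord (l : ν) (p : MvPolynomial (Fin N) K) (μ : Fin N →₀ ℕ) :
    (coord b l p).coeff μ = b.repr (p.coeff μ) l := by
  classical
  rw [coord, coeff_sum]
  simp only [coeff_monomial, Finset.sum_ite_eq']
  split_ifs with h
  · rfl
  · rw [notMem_support_iff.1 h, map_zero, Finsupp.zero_apply]

theorem totalDegree_coord_le (l : ν) (p : MvPolynomial (Fin N) K) :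
    (coord b l p).totalDegree ≤ p.totalDegree :=
  Finset.sup_mono fun μ hμ => mem_support_iff.2 fun h => mem_support_iff.1 hμ (by simp [h])

theorem coord_add (l : ν) (p q : MvPolynomial (Fin N) K) : coord b l (p + q) = coord b l p + coord b l q := by
  ext μ; simp

theorem coord_map_mul (l : ν) (q : MvPolynomial (Fin N) k) (p : MvPolynomial (Fin N) K) :
    coord b l (MvPolynomial.map (algebraMap k K) q * p) = q * coord b l p := by
  classical
  ext μ
  rw [coeff_coord, coeff_mul, coeff_mul, map_sum, Finsupp.finsetSum_apply]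
  refine Finset.sum_congr rfl fun x _ => ?_
  rw [coeff_map, coeff_coord, ← Algebra.smul_def, map_smul, Finsupp.smul_apply, smul_eq_mul]

/-- The coordinates as an additive map. -/
noncomputable def coordHom (l : ν) : MvPolynomial (Fin N) K →+ MvPolynomial (Fin N) k :=
  AddMonoidHom.mk' (coord b l) (coord_add b l)

theorem sum_coord (p : MvPolynomial (Fin N) K) :
    ∑ l, C (b l) * MvPolynomial.map (algebraMap k K) (coord b l p) = p := by
  ext μ
  rw [coeff_sum]
  simp only [coeff_C_mul, coeff_map, coeff_coord]
  conv_rhs => rw [← b.sum_repr (p.coeff μ)]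
  exact Finset.sum_congr rfl fun l _ => by rw [Algebra.smul_def, mul_comm]

theorem coord_map (l : ν) (q : MvPolynomial (Fin N) k) :
    coord b l (MvPolynomial.map (algebraMap k K) q) = C (b.repr 1 l) * q := by
  rw [← mul_one (MvPolynomial.map (algebraMap k K) q), coord_map_mul, mul_comm]
  congr 1
  ext μ
  rw [coeff_coord, coeff_one, coeff_C]
  split_ifs <;> simp

include b in
/-- An ideal is contracted from its extension along an extension of fields. -/
theorem mem_span_of_map_mem {I : Type} [Fintype I] (g : I → MvPolynomial (Fin N) k) (f : MvPolynomial (Fin N) k)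
    (h : MvPolynomial.map (algebraMap k K) f ∈ Ideal.span (Set.range fun i => MvPolynomial.map (algebraMap k K) (g i))) :
    f ∈ Ideal.span (Set.range g) := by
  obtain ⟨a, ha⟩ := Ideal.mem_span_range_iff_exists_fun.1 h
  obtain ⟨l, hl⟩ : ∃ l, b.repr 1 l ≠ 0 := by
    by_contra hc
    push Not at hc
    exact one_ne_zero (b.repr.map_eq_zero_iff.1 (Finsupp.ext hc))
  have h1 : C (b.repr 1 l) * f ∈ Ideal.span (Set.range g) := by
    rw [← coord_map, ← ha]
    show coordHom b l _ ∈ _
    rw [map_sum]
    refine Submodule.sum_mem _ fun i _ => ?_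
    show coord b l (a i * MvPolynomial.map (algebraMap k K) (g i)) ∈ _
    rw [mul_comm, coord_map_mul, mul_comm]
    exact Ideal.mul_mem_left _ _ (Ideal.subset_span ⟨i, rfl⟩)
  exact (Ideal.unit_mul_mem_iff_mem _ ((IsUnit.mk0 _ hl).map C)).1 h1

end coord

/-- Contractions along field extensions of bounded degree of ideals generated in bounded degree are
generated in bounded degree. -/
theorem exists_contraction_bound (d r R : ℕ) :
    ∃ B : ℕ, ∀ (k K : Type u) [Field k] [Field K] [Algebra k K] (n : ℕ), n ≤ d →
      Module.Basis (Fin n) k K → ∀ g : Fin r → MvPolynomial (Fin N) K, (∀ j, (g j).totalDegree ≤ R) →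
        ∀ f : MvPolynomial (Fin N) k, MvPolynomial.map (algebraMap k K) f ∈ Ideal.span (Set.range g) →
          f ∈ Ideal.span {h : MvPolynomial (Fin N) k | h.totalDegree ≤ B ∧
            MvPolynomial.map (algebraMap k K) h ∈ Ideal.span (Set.range g)} := by
  classical
  choose B hB using fun n : ℕ => exists_syzygy_bound.{u} (N := N) (Option (Fin n × Fin r)) (Fin n) R
  refine ⟨(Finset.range (d + 1)).sup B, fun k K _ _ _ n hn b g hg f hf => ?_⟩
  let M : Matrix (Fin n) (Option (Fin n × Fin r)) (MvPolynomial (Fin N) k) :=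
    Matrix.of fun l x => x.elim (-C (b.repr 1 l)) fun y => coord b l (C (b y.1) * g y.2)
  have hM : ∀ l x, (M l x).totalDegree ≤ R := by
    intro l x
    cases x with
    | none => simp [M]
    | some y =>
      refine (totalDegree_coord_le b l _).trans ((totalDegree_mul _ _).trans ?_)
      simpa using hg y.2
  have hMv : ∀ v, M.mulVec v = fun l => coord b l (∑ y : Fin n × Fin r,
      MvPolynomial.map (algebraMap k K) (v (some y)) * (C (b y.1) * g y.2) -
        MvPolynomial.map (algebraMap k K) (v none)) := by
    intro v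
    funext l
    show _ = coordHom b l _
    rw [map_sub, map_sum]
    show _ = ∑ y, coord b l _ - coord b l _
    simp only [coord_map_mul, coord_map, Matrix.mulVec, dotProduct, Fintype.sum_option]
    simp [M, mul_comm]
    ring
  obtain ⟨a, ha⟩ := Ideal.mem_span_range_iff_exists_fun.1 hf
  let v : Option (Fin n × Fin r) → MvPolynomial (Fin N) k := fun x => x.elim f fun y => coord b y.1 (a y.2)
  have hrec : ∑ y : Fin n × Fin r, MvPolynomial.map (algebraMap k K) (coord b y.1 (a y.2)) * (C (b y.1) * g y.2) =
      ∑ j, a j * g j := by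
    rw [Fintype.sum_prod_type_right]
    refine Finset.sum_congr rfl fun j _ => ?_
    conv_rhs => rw [← sum_coord b (a j), Finset.sum_mul]
    exact Finset.sum_congr rfl fun l _ => by ring
  have hv : M.mulVec v = 0 := by
    rw [hMv]
    funext l
    show coord b l (_ - MvPolynomial.map (algebraMap k K) f) = 0
    rw [show (∑ y : Fin n × Fin r, MvPolynomial.map (algebraMap k K) (v (some y)) * (C (b y.1) * g y.2)) =
      ∑ j, a j * g j from hrec, ha, sub_self]
    exact (coordHom b l).map_zero
  have hspan := hB n k M hM v hv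
  have hgen : ∀ w, M.mulVec w = 0 → MvPolynomial.map (algebraMap k K) (w none) ∈ Ideal.span (Set.range g) := by
    intro w hw
    rw [hMv] at hw
    have h0 : (∑ y : Fin n × Fin r, MvPolynomial.map (algebraMap k K) (w (some y)) * (C (b y.1) * g y.2)) =
        MvPolynomial.map (algebraMap k K) (w none) := by
      refine sub_eq_zero.1 ?_
      rw [← sum_coord b (_ - _)]
      refine Finset.sum_eq_zero fun l _ => ?_
      rw [show coord b l _ = 0 from congrFun hw l, map_zero, mul_zero]
    rw [← h0]
    exact Submodule.sum_mem _ fun y _ => Ideal.mul_mem_left _ _ (Ideal.mul_mem_left _ _ (Ideal.subset_span ⟨y.2, rfl⟩))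
  have : ∀ w ∈ Submodule.span (MvPolynomial (Fin N) k) {w | M.mulVec w = 0 ∧ ∀ e, (w e).totalDegree ≤ B n},
      w none ∈ Ideal.span {h : MvPolynomial (Fin N) k | h.totalDegree ≤ (Finset.range (d + 1)).sup B ∧
        MvPolynomial.map (algebraMap k K) h ∈ Ideal.span (Set.range g)} := by
    intro w hw
    induction hw using Submodule.span_induction with
    | mem w hw => exact Ideal.subset_span ⟨(hw.2 none).trans (Finset.le_sup (Finset.mem_range.2 (by omega))), hgen w hw.1⟩
    | zero => exact Submodule.zero_mem _
    | add x y _ _ hx hy => exact add_mem hx hy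
    | smul q x _ hx => exact Ideal.mul_mem_left _ q hx
  exact this v hspan

end Groth.Agent.RadBoundLib
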