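import Groth.Agent.RadBoundLib.Contract
import Groth.Agent.FlatMisc.SpreadGeomRed

/-!
# A uniform degree bound for radicals
-/

universe u
set_option autoImplicit false
set_option linter.unusedSectionVars false
open MvPolynomial TensorProduct

namespace Groth.Agent.RadBoundLib

variable {N : ℕ}

/-- Base change of a quotient of a polynomial ring. -/
theorem isReduced_tensor_iff (A L : Type u) [CommRing A] [CommRing L] [Algebra A L]
    (I : Ideal (MvPolynomial (Fin N) A)) :
    IsReduced (L ⊗[A] (MvPolynomial (Fin N) A ⧸ I)) ↔ (I.map (MvPolynomial.map (algebraMap A L))).IsRadical := by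
  rw [Ideal.isRadical_iff_quotient_reduced]
  let e₁ := Algebra.TensorProduct.tensorQuotientEquiv (R := A) L (MvPolynomial (Fin N) A) L I
  let e₂ : (L ⊗[A] MvPolynomial (Fin N) A) ≃+* MvPolynomial (Fin N) L :=
    (MvPolynomial.algebraTensorAlgEquiv A L).toRingEquiv
  have h : I.map (MvPolynomial.map (algebraMap A L)) =
      (I.map (Algebra.TensorProduct.includeRight (R := A) (A := L) (B := MvPolynomial (Fin N) A))).map e₂.toRingHom := by
    show _ = (I.map (Algebra.TensorProduct.includeRight (R := A) (A := L) (B := MvPolynomial (Fin N) A)).toRingHom).map _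
    rw [Ideal.map_map]
    congr 1
    refine RingHom.ext fun p => ?_
    show _ = MvPolynomial.algebraTensorAlgEquiv A L (1 ⊗ₜ[A] p)
    rw [algebraTensorAlgEquiv_tmul, one_smul]
  let e₃ := Ideal.quotientEquiv _ _ e₂ h
  exact ⟨fun _ => isReduced_of_injective (e₁.toRingEquiv.trans e₃).symm (RingEquiv.injective _),
    fun _ => isReduced_of_injective (e₁.toRingEquiv.trans e₃) (RingEquiv.injective _)⟩

/-- Geometric reducedness of the generic fibre is tested over one algebraically closed field. -/
theorem isGeometricallyReduced_fractionRing (A S Ω : Type u) [CommRing A] [IsDomain A] [CommRing S] [Algebra A S]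
    [Field Ω] [IsAlgClosed Ω] [Algebra A Ω] (hι : Function.Injective (algebraMap A Ω))
    (h : IsReduced (Ω ⊗[A] S)) : Algebra.IsGeometricallyReduced (FractionRing A) (FractionRing A ⊗[A] S) := by
  rw [Algebra.isGeometricallyReduced_field_iff]
  let iK : FractionRing A →+* Ω := IsFractionRing.lift (g := algebraMap A Ω) hι
  let : Algebra (FractionRing A) Ω := iK.toAlgebra
  have : IsScalarTower A (FractionRing A) Ω :=
    IsScalarTower.of_algebraMap_eq fun x => (IsFractionRing.lift_algebraMap hι x).symm
  have h1 : IsReduced (Ω ⊗[FractionRing A] (FractionRing A ⊗[A] S)) :=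
    isReduced_of_injective (Algebra.TensorProduct.cancelBaseChange A (FractionRing A) Ω Ω S) (AlgEquiv.injective _)
  let em : AlgebraicClosure (FractionRing A) →ₐ[FractionRing A] Ω := IsAlgClosed.lift
  have : Module.Flat (FractionRing A) (FractionRing A ⊗[A] S) :=
    @Module.Flat.of_free (FractionRing A) (FractionRing A ⊗[A] S) _ _ _ (Module.Free.of_divisionRing _ _)
  exact isReduced_of_injective (Algebra.TensorProduct.map em (AlgHom.id (FractionRing A) (FractionRing A ⊗[A] S)))
    (Module.Flat.rTensor_preserves_injective_linearMap em.toLinearMap em.toRingHom.injective)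

/-- A point with values in a field extends along a finite injective extension after a bounded field extension. -/
theorem exists_point {A B : Type u} [CommRing A] [IsDomain A] [CommRing B] [IsDomain B] [Algebra A B]
    [Module.Finite A B] (hinj : Function.Injective (algebraMap A B)) {d : ℕ} (s : Fin d → B)
    (hs : Submodule.span A (Set.range s) = ⊤) (k : Type u) [Field k] [Algebra A k] :
    ∃ (K : Type u) (_ : Field K) (_ : Algebra k K) (n : ℕ) (_ : Module.Basis (Fin n) k K) (χ : B →+* K),
      n ≤ d ∧ χ.comp (algebraMap A B) = (algebraMap k K).comp (algebraMap A k) := by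
  have : Algebra.IsIntegral A B := Algebra.IsIntegral.of_finite A B
  let p : Ideal A := RingHom.ker (algebraMap A k)
  have : p.IsPrime := RingHom.ker_isPrime _
  obtain ⟨q, hq, hqp⟩ := Ideal.exists_ideal_over_prime_of_isIntegral_of_isDomain (S := B) p
    (by rw [(RingHom.injective_iff_ker_eq_bot _).1 hinj]; exact bot_le)
  have : q.LiesOver p := ⟨hqp.symm⟩
  let Ω := AlgebraicClosure k
  let : Algebra (A ⧸ p) Ω := (Ideal.Quotient.lift p (algebraMap A Ω) fun a (ha : algebraMap A k a = 0) => by
    rw [IsScalarTower.algebraMap_apply A k Ω, ha, map_zero]).toAlgebra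
  have hΩ : Function.Injective (algebraMap (A ⧸ p) Ω) := by
    refine RingHom.lift_injective_of_ker_le_ideal _ _ fun a ha => ?_
    rw [RingHom.mem_ker, IsScalarTower.algebraMap_apply A k Ω] at ha
    exact (algebraMap k Ω).injective (ha.trans (map_zero _).symm)
  have hqinj : Function.Injective (algebraMap (A ⧸ p) (B ⧸ q)) := (injective_iff_map_eq_zero _).2 fun a ha => by
    obtain ⟨a, rfl⟩ := Ideal.Quotient.mk_surjective a
    change Ideal.Quotient.mk q (algebraMap A B a) = 0 at ha
    rw [Ideal.Quotient.eq_zero_iff_mem] at ha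
    exact Ideal.Quotient.eq_zero_iff_mem.2 (hqp ▸ Ideal.mem_comap.2 ha)
  have : Module.IsTorsionFree (A ⧸ p) (B ⧸ q) :=
    Module.isTorsionFree_iff_algebraMap_injective.2 hqinj
  have : Module.IsTorsionFree (A ⧸ p) Ω := Module.isTorsionFree_iff_algebraMap_injective.2 hΩ
  have : Algebra.IsAlgebraic (A ⧸ p) (B ⧸ q) := Algebra.IsIntegral.isAlgebraic
  let ψ : (B ⧸ q) →ₐ[A ⧸ p] Ω := IsAlgClosed.lift
  let χ₀ : B →+* Ω := (ψ : B ⧸ q →+* Ω).comp (Ideal.Quotient.mk q)
  have hχ₀ : ∀ a, χ₀ (algebraMap A B a) = algebraMap k Ω (algebraMap A k a) := fun a => by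
    show ψ (algebraMap (A ⧸ p) (B ⧸ q) (Ideal.Quotient.mk p a)) = _
    rw [AlgHom.commutes, ← IsScalarTower.algebraMap_apply A k Ω]
    rfl
  let χA : B →ₐ[A] Ω :=
    { χ₀ with commutes' := fun a => (hχ₀ a).trans (IsScalarTower.algebraMap_apply A k Ω a).symm }
  let T : k ⊗[A] B →ₐ[k] Ω := Algebra.TensorProduct.lift (Algebra.ofId k Ω) χA (fun _ _ => Commute.all _ _)
  let K : Subalgebra k Ω := T.range
  have hgen : Submodule.span k (Set.range fun i => ((1 : k) ⊗ₜ[A] s i)) = (⊤ : Submodule k (k ⊗[A] B)) := by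
    suffices ∀ z, z ∈ Submodule.span k (Set.range fun i => ((1 : k) ⊗ₜ[A] s i)) from eq_top_iff.2 fun z _ => this z
    intro z
    induction z with
    | zero => exact Submodule.zero_mem _
    | tmul c x =>
      have hx : x ∈ Submodule.span A (Set.range s) := hs ▸ Submodule.mem_top
      rw [show c ⊗ₜ[A] x = c • ((1 : k) ⊗ₜ[A] x) by rw [smul_tmul', smul_eq_mul, mul_one]]
      refine Submodule.smul_mem _ c ?_
      induction hx using Submodule.span_induction with
      | mem x hx => obtain ⟨i, rfl⟩ := hx; exact Submodule.subset_span ⟨i, rfl⟩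
      | zero => simp
      | add x y _ _ hx hy => rw [tmul_add]; exact add_mem hx hy
      | smul a x _ hx => rw [tmul_smul, ← algebraMap_smul k a]; exact Submodule.smul_mem _ _ hx
    | add x y hx hy => exact add_mem hx hy
  have : Module.Finite k (k ⊗[A] B) := inferInstance
  have : Module.Finite k K := Module.Finite.range T.toLinearMap
  have : IsField K := isField_of_isIntegral_of_isField' (R := k) (Field.toIsField k)
  let := this.toField
  refine ⟨K, inferInstance, inferInstance, Module.finrank k K, Module.finBasis k K,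
    (T.rangeRestrict : k ⊗[A] B →+* K).comp (Algebra.TensorProduct.includeRight : B →ₐ[A] k ⊗[A] B).toRingHom,
    ?_, ?_⟩
  · refine (LinearMap.finrank_le_finrank_of_surjective (f := T.rangeRestrict.toLinearMap) T.rangeRestrict_surjective).trans ?_
    rw [← finrank_top k (k ⊗[A] B), ← hgen]
    exact (finrank_range_le_card _).trans_eq (Fintype.card_fin d)
  · refine RingHom.ext fun a => Subtype.ext ?_
    show T ((1 : k) ⊗ₜ[A] algebraMap A B a) = algebraMap k Ω (algebraMap A k a)
    rw [Algebra.TensorProduct.lift_tmul, map_one, one_mul]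
    exact hχ₀ a

set_option maxHeartbeats 800000 in
/-- Near the generic point of the parameters the radical is the contraction of an ideal in bounded degree. -/
theorem exists_radical_near (A : Type u) [CommRing A] [IsDomain A] [IsNoetherianRing A] {M : ℕ}
    (G : Fin M → MvPolynomial (Fin N) A) :
    ∃ f : A, f ≠ 0 ∧ ∃ d r R : ℕ, ∀ (k : Type u) [Field k] [Algebra A k], algebraMap A k f ≠ 0 →
      ∃ (K : Type u) (_ : Field K) (_ : Algebra k K) (n : ℕ) (_ : Module.Basis (Fin n) k K)
        (g : Fin r → MvPolynomial (Fin N) K), n ≤ d ∧ (∀ j, (g j).totalDegree ≤ R) ∧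
          ∀ x : MvPolynomial (Fin N) k, x ∈ (Ideal.span (Set.range fun i => MvPolynomial.map (algebraMap A k) (G i))).radical ↔
            MvPolynomial.map (algebraMap k K) x ∈ Ideal.span (Set.range g) := by
  classical
  let F := FractionRing A
  let Ω := AlgebraicClosure F
  have hAΩ : Function.Injective (algebraMap A Ω) := by
    rw [IsScalarTower.algebraMap_eq A F Ω]
    exact (algebraMap F Ω).injective.comp (IsFractionRing.injective A F)
  have : Algebra.IsAlgebraic A Ω := (IsFractionRing.comap_isAlgebraic_iff (A := A) (K := F) (C := Ω)).2 inferInstance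
  let GΩ : Fin M → MvPolynomial (Fin N) Ω := fun i => MvPolynomial.map (algebraMap A Ω) (G i)
  obtain ⟨r, g, hg⟩ := Submodule.fg_iff_exists_fin_generating_family.1
    (IsNoetherian.noetherian (Ideal.span (Set.range GΩ)).radical)
  have hgJ : ∀ j, g j ∈ (Ideal.span (Set.range GΩ)).radical := fun j => hg ▸ Submodule.subset_span ⟨j, rfl⟩
  choose e he using hgJ
  choose b hb using fun j => Ideal.mem_span_range_iff_exists_fun.1 (he j)
  have hGg : ∀ i, GΩ i ∈ Ideal.span (Set.range g) := fun i => by
    rw [show Ideal.span (Set.range g) = (Ideal.span (Set.range GΩ)).radical from hg]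
    exact Ideal.le_radical (Ideal.subset_span ⟨i, rfl⟩)
  choose c hc using fun i => Ideal.mem_span_range_iff_exists_fun.1 (hGg i)
  let Cs : Finset Ω := (Finset.univ.biUnion fun j => (g j).support.image fun μ => (g j).coeff μ) ∪
    (Finset.univ.biUnion fun j => Finset.univ.biUnion fun i => (b j i).support.image fun μ => (b j i).coeff μ) ∪
    (Finset.univ.biUnion fun i => Finset.univ.biUnion fun j => (c i j).support.image fun μ => (c i j).coeff μ)
  obtain ⟨y, hy0, hy⟩ := Algebra.IsAlgebraic.exists_integral_multiples A Cs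
  let A₂ : Subalgebra A Ω := Algebra.adjoin A ((fun α => y • α) '' (Cs : Set Ω))
  have : Module.Finite A A₂ := Module.Finite.iff_fg.2 (fg_adjoin_of_finite (Cs.finite_toSet.image _)
    fun z hz => by obtain ⟨α, hα, rfl⟩ := hz; exact hy α hα)
  obtain ⟨d, s, hs⟩ := Module.Finite.exists_fin (R := A) (M := A₂)
  have hinj₂ : Function.Injective (algebraMap A A₂) := fun a a' h => hAΩ (congrArg Subtype.val h)
  let y₂ : A₂ := algebraMap A A₂ y
  have hy₂ : y₂ ≠ 0 := fun h => hy0 (hinj₂ (h.trans (map_zero _).symm))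
  let A' := Localization.Away y₂
  have : IsDomain A' := IsLocalization.isDomain_localization (powers_le_nonZeroDivisors_of_noZeroDivisors hy₂)
  let ι : A' →+* Ω := IsLocalization.Away.lift y₂ (g := (A₂.val : A₂ →+* Ω))
    (IsUnit.mk0 _ fun h => hy₂ (Subtype.ext h))
  have hι : Function.Injective ι := (injective_iff_map_eq_zero ι).2 fun z hz => by
    obtain ⟨⟨w, t⟩, hwt⟩ := IsLocalization.surj (Submonoid.powers y₂) z
    have h1 : (A₂.val : A₂ →+* Ω) w = 0 := by
      rw [← IsLocalization.Away.lift_eq (S := A') y₂ (g := (A₂.val : A₂ →+* Ω))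
        (IsUnit.mk0 _ fun h => hy₂ (Subtype.ext h)) w, ← hwt, map_mul]
      exact mul_eq_zero_of_left hz _
    rw [show w = 0 from Subtype.ext h1, map_zero] at hwt
    exact (IsLocalization.map_units A' t).mul_left_eq_zero.1 hwt
  let : Algebra A' Ω := ι.toAlgebra
  have hιA : ∀ a, ι (algebraMap A A' a) = algebraMap A Ω a := fun a => by
    rw [IsScalarTower.algebraMap_apply A A₂ A', IsLocalization.Away.lift_eq]; rfl
  have : IsScalarTower A A' Ω := IsScalarTower.of_algebraMap_eq fun a => (hιA a).symm
  have hmem : ∀ α ∈ Cs, α ∈ ι.range := fun α hα => by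
    refine ⟨algebraMap A₂ A' ⟨y • α, Algebra.subset_adjoin ⟨α, hα, rfl⟩⟩ * IsLocalization.Away.invSelf y₂, ?_⟩
    have h1 : ι (algebraMap A₂ A' y₂) * ι (IsLocalization.Away.invSelf y₂) = 1 := by
      rw [← map_mul, IsLocalization.Away.mul_invSelf, map_one]
    rw [map_mul, IsLocalization.Away.lift_eq]
    rw [IsLocalization.Away.lift_eq] at h1
    show y • α * _ = α
    rw [Algebra.smul_def, mul_comm (algebraMap A Ω y) α, mul_assoc]
    rw [show algebraMap A Ω y * ι (IsLocalization.Away.invSelf y₂) = 1 from h1, mul_one]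
  have hlift : ∀ p : MvPolynomial (Fin N) Ω, (∀ μ ∈ p.support, p.coeff μ ∈ Cs) → ∃ p', MvPolynomial.map ι p' = p := by
    intro p hp
    refine RingHom.mem_range.1 (MvPolynomial.mem_range_map_iff_coeffs_subset.2 fun α hα => ?_)
    obtain ⟨μ, hμ, rfl⟩ := MvPolynomial.mem_coeffs_iff.1 hα
    exact hmem _ (hp μ hμ)
  choose g' hg' using fun j => hlift (g j) fun μ hμ => Finset.mem_union_left _ (Finset.mem_union_left _
    (Finset.mem_biUnion.2 ⟨j, Finset.mem_univ _, Finset.mem_image_of_mem _ hμ⟩))
  choose b' hb' using fun j i => hlift (b j i) fun μ hμ => Finset.mem_union_left _ (Finset.mem_union_right _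
    (Finset.mem_biUnion.2 ⟨j, Finset.mem_univ _, Finset.mem_biUnion.2 ⟨i, Finset.mem_univ _, Finset.mem_image_of_mem _ hμ⟩⟩))
  choose c' hc' using fun i j => hlift (c i j) fun μ hμ => Finset.mem_union_right _
    (Finset.mem_biUnion.2 ⟨i, Finset.mem_univ _, Finset.mem_biUnion.2 ⟨j, Finset.mem_univ _, Finset.mem_image_of_mem _ hμ⟩⟩)
  let G' : Fin M → MvPolynomial (Fin N) A' := fun i => MvPolynomial.map (algebraMap A A') (G i)
  have hG' : ∀ i, MvPolynomial.map ι (G' i) = GΩ i := fun i => by
    rw [MvPolynomial.map_map, show ι.comp (algebraMap A A') = algebraMap A Ω from RingHom.ext hιA]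
  have hmi := MvPolynomial.map_injective (σ := Fin N) ι hι
  have hpow : ∀ j, g' j ^ e j ∈ Ideal.span (Set.range G') := fun j =>
    Ideal.mem_span_range_iff_exists_fun.2 ⟨b' j, hmi (by
      simp only [map_sum, map_mul, map_pow, hg', hb', hG']; exact hb j)⟩
  have hin : ∀ i, G' i ∈ Ideal.span (Set.range g') := fun i =>
    Ideal.mem_span_range_iff_exists_fun.2 ⟨c' i, hmi (by
      simp only [map_sum, map_mul, hg', hc', hG']; exact hc i)⟩
  let S := MvPolynomial (Fin N) A' ⧸ Ideal.span (Set.range g')
  let K' := FractionRing A'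
  have : Algebra.IsGeometricallyReduced K' (K' ⊗[A'] S) := by
    refine isGeometricallyReduced_fractionRing A' S Ω hι ((isReduced_tensor_iff A' Ω _).2 ?_)
    rw [Ideal.map_span, ← Set.range_comp]
    rw [show (MvPolynomial.map (algebraMap A' Ω)) ∘ g' = g from funext hg',
      show Ideal.span (Set.range g) = (Ideal.span (Set.range GΩ)).radical from hg]
    exact Ideal.radical_isRadical _
  obtain ⟨c₀, hc₀, hred⟩ := FlatMisc.SpreadRed.exists_reduced_near (R := A') (S := S) K'
  have : Algebra.IsAlgebraic A A' := Algebra.IsAlgebraic.of_injective (IsScalarTower.toAlgHom A A' Ω) hι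
  obtain ⟨a, ha0, hca⟩ := (Algebra.IsAlgebraic.isAlgebraic (R := A) c₀).exists_nonzero_dvd
    (mem_nonZeroDivisors_of_ne_zero hc₀)
  refine ⟨y * a, mul_ne_zero hy0 ha0, d, r, Finset.univ.sup fun j => (g' j).totalDegree, fun k _ _ hk => ?_⟩
  rw [map_mul] at hk
  obtain ⟨K, _, _, n, bK, χ₂, hn, hχ₂⟩ := exists_point hinj₂ s hs k
  have hu : IsUnit (χ₂ y₂) := by
    rw [show χ₂ y₂ = algebraMap k K (algebraMap A k y) from RingHom.congr_fun hχ₂ y]
    exact (IsUnit.mk0 _ (left_ne_zero_of_mul hk)).map _
  let χ : A' →+* K := IsLocalization.Away.lift y₂ hu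
  have hχ : χ.comp (algebraMap A A') = (algebraMap k K).comp (algebraMap A k) := RingHom.ext fun z => by
    rw [RingHom.comp_apply, IsScalarTower.algebraMap_apply A A₂ A', IsLocalization.Away.lift_eq]
    exact RingHom.congr_fun hχ₂ z
  let : Algebra A' K := χ.toAlgebra
  have hc₀K : algebraMap A' K c₀ ≠ 0 := fun h => by
    obtain ⟨z, hz⟩ := hca
    have h1 := congrArg χ hz
    rw [map_mul, show χ c₀ = 0 from h, zero_mul] at h1
    have h2 : algebraMap k K (algebraMap A k a) = 0 := (RingHom.congr_fun hχ a).symm.trans h1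
    exact right_ne_zero_of_mul hk ((algebraMap k K).injective (h2.trans (map_zero _).symm))
  have hrad : (Ideal.span (Set.range fun j => MvPolynomial.map χ (g' j))).IsRadical := by
    have := (isReduced_tensor_iff A' K _).1 (hred K hc₀K)
    rw [Ideal.map_span, ← Set.range_comp] at this
    exact this
  refine ⟨K, inferInstance, inferInstance, n, bK, fun j => MvPolynomial.map χ (g' j), hn,
    fun j => (totalDegree_map_le _ _).trans (Finset.le_sup (f := fun j => (g' j).totalDegree) (Finset.mem_univ j)),
    fun x => ?_⟩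
  have hGK : ∀ i, MvPolynomial.map (algebraMap k K) (MvPolynomial.map (algebraMap A k) (G i)) =
      MvPolynomial.map χ (G' i) := fun i => by
    rw [MvPolynomial.map_map, MvPolynomial.map_map, hχ]
  constructor
  · rintro ⟨m, hm⟩
    refine hrad ⟨m, ?_⟩
    have h1 := Ideal.mem_map_of_mem (MvPolynomial.map (algebraMap k K)) hm
    rw [Ideal.map_span, ← Set.range_comp, map_pow] at h1
    refine Ideal.span_le.2 ?_ h1
    rintro _ ⟨i, rfl⟩
    show MvPolynomial.map (algebraMap k K) (MvPolynomial.map (algebraMap A k) (G i)) ∈ _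
    rw [hGK]
    have := Ideal.mem_map_of_mem (MvPolynomial.map χ) (hin i)
    rwa [Ideal.map_span, ← Set.range_comp] at this
  · intro hx
    have h1 : Ideal.span (Set.range fun j => MvPolynomial.map χ (g' j)) ≤
        (Ideal.span (Set.range fun i => MvPolynomial.map χ (G' i))).radical := Ideal.span_le.2 (by
      rintro _ ⟨j, rfl⟩
      refine ⟨e j, ?_⟩
      have := Ideal.mem_map_of_mem (MvPolynomial.map χ) (hpow j)
      rwa [Ideal.map_span, ← Set.range_comp, map_pow] at this)
    obtain ⟨m, hm⟩ := h1 hx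
    refine ⟨m, mem_span_of_map_mem bK _ _ ?_⟩
    rw [map_pow]
    simpa only [hGK] using hm

end Groth.Agent.RadBoundLib
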