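import Mathlib
import Groth.Agent.FlatMisc.SpreadRed
import Groth.Agent.GenFreeRed.Main

/-!
# Uniform degree bounds for syzygies over fields
-/

universe u
set_option autoImplicit false
open TensorProduct MvPolynomial

namespace Groth.Agent.RadBoundLib

/-- Noetherian induction for bounds on the points of a Noetherian ring in fields. -/
theorem exists_bound_of_generic {P : Type u} [CommRing P] [IsNoetherianRing P]
    (Q : ∀ (k : Type u) [Field k], (P →+* k) → ℕ → Prop)
    (hmono : ∀ (k : Type u) [Field k] (φ : P →+* k) (a b : ℕ), a ≤ b → Q k φ a → Q k φ b)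
    (h : ∀ (a : Ideal P), a.IsPrime → ∃ f : P ⧸ a, f ≠ 0 ∧ ∃ R, ∀ (k : Type u) [Field k] (ψ : P ⧸ a →+* k),
      ψ f ≠ 0 → Q k (ψ.comp (Ideal.Quotient.mk a)) R) :
    ∃ R, ∀ (k : Type u) [Field k] (φ : P →+* k), Q k φ R := by
  suffices ∀ a : Ideal P, ∃ R, ∀ (k : Type u) [Field k] (φ : P →+* k), a ≤ RingHom.ker φ → Q k φ R by
    obtain ⟨R, hR⟩ := this ⊥
    exact ⟨R, fun k _ φ => hR k φ bot_le⟩
  intro a
  induction a using WellFoundedGT.induction with
  | _ a IH =>
    by_cases htop : a = ⊤
    · subst htop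
      exact ⟨0, fun k _ φ hφ => absurd (eq_top_iff.2 hφ) (RingHom.ker_ne_top φ)⟩
    by_cases hp : a.IsPrime
    · obtain ⟨f, hf, R₁, hR₁⟩ := h a hp
      obtain ⟨f, rfl⟩ := Ideal.Quotient.mk_surjective f
      have hfa : f ∉ a := fun h => hf (Ideal.Quotient.eq_zero_iff_mem.2 h)
      obtain ⟨R₂, hR₂⟩ := IH (a ⊔ Ideal.span {f})
        (left_lt_sup.2 fun h => hfa (h (Ideal.mem_span_singleton_self f)))
      refine ⟨max R₁ R₂, fun k _ φ hφ => ?_⟩
      by_cases hf0 : φ f = 0
      · exact hmono k φ _ _ (le_max_right _ _) (hR₂ k φ (sup_le hφ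
          ((Ideal.span_singleton_le_iff_mem _).2 hf0)))
      · exact hmono k φ _ _ (le_max_left _ _)
          (hR₁ k (Ideal.Quotient.lift a φ fun x hx => hφ hx) hf0)
    · obtain ⟨x, y, hxy, hx, hy⟩ : ∃ x y, x * y ∈ a ∧ x ∉ a ∧ y ∉ a := by
        by_contra hc
        push Not at hc
        exact hp ⟨htop, fun {x y} hxy => or_iff_not_imp_left.2 (hc x y hxy)⟩
      obtain ⟨R₁, hR₁⟩ := IH (a ⊔ Ideal.span {x})
        (left_lt_sup.2 fun h => hx (h (Ideal.mem_span_singleton_self x)))
      obtain ⟨R₂, hR₂⟩ := IH (a ⊔ Ideal.span {y})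
        (left_lt_sup.2 fun h => hy (h (Ideal.mem_span_singleton_self y)))
      refine ⟨max R₁ R₂, fun k _ φ hφ => ?_⟩
      rcases (RingHom.ker_isPrime φ).mem_or_mem (hφ hxy) with h1 | h1
      · exact hmono k φ _ _ (le_max_left _ _) (hR₁ k φ (sup_le hφ ((Ideal.span_singleton_le_iff_mem _).2 h1)))
      · exact hmono k φ _ _ (le_max_right _ _) (hR₂ k φ (sup_le hφ ((Ideal.span_singleton_le_iff_mem _).2 h1)))

theorem totalDegree_map_le {σ R S : Type*} [CommSemiring R] [CommSemiring S] (f : R →+* S) (p : MvPolynomial σ R) :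
    (MvPolynomial.map f p).totalDegree ≤ p.totalDegree :=
  Finset.sup_mono (support_map_subset f p)

variable {σ : Type} [Finite σ] {ι κ : Type} [Fintype ι] [Fintype κ]

/-- A quasi-inverse of a base-changed map with projective cokernel. -/
theorem exists_quasiInverse {A : Type u} [CommRing A] (A' : Type u) [CommRing A'] [Algebra A A']
    {M N C : Type u} [AddCommGroup M] [Module A M] [AddCommGroup N] [Module A N] [AddCommGroup C] [Module A C]
    (L : M →ₗ[A] N) (π : N →ₗ[A] C) (hex : Function.Exact L π) (hπ : Function.Surjective π)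
    [Module.Projective A' (A' ⊗[A] N)] [Module.Projective A' (A' ⊗[A] C)] :
    ∃ s : A' ⊗[A] N →ₗ[A'] A' ⊗[A] M, ∀ x, L.baseChange A' (s (L.baseChange A' x)) = L.baseChange A' x := by
  let L' := L.baseChange A'
  let π' := π.baseChange A'
  have hex' : Function.Exact L' π' := fun x => lTensor_exact A' hex hπ x
  obtain ⟨σ', hσ'⟩ := π'.exists_rightInverse_of_surjective
    (LinearMap.range_eq_top.2 (LinearMap.lTensor_surjective A' hπ))
  let p : A' ⊗[A] N →ₗ[A'] LinearMap.range L' :=
    (LinearMap.id - σ'.comp π').codRestrict _ fun x => (hex' _).1 (by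
      rw [LinearMap.sub_apply, map_sub, LinearMap.id_apply, LinearMap.comp_apply,
        show π' (σ' (π' x)) = π' x from LinearMap.congr_fun hσ' _, sub_self])
  obtain ⟨s, hs⟩ := Module.projective_lifting_property L'.rangeRestrict p L'.surjective_rangeRestrict
  refine ⟨s, fun x => ?_⟩
  have h1 := congrArg Subtype.val (LinearMap.congr_fun hs (L' x))
  have h2 : π' (L' x) = 0 := (hex' _).2 ⟨x, rfl⟩
  change L' (s (L' x)) = L' x - σ' (π' (L' x)) at h1
  rw [h2, map_zero, sub_zero] at h1
  exact h1

set_option maxHeartbeats 400000 in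
/-- Near the generic point the syzygies of a matrix of polynomials are generated in bounded degree. -/
theorem exists_syzygy_bound_generic (A : Type u) [CommRing A] [IsDomain A] [IsNoetherianRing A]
    (M : Matrix κ ι (MvPolynomial σ A)) :
    ∃ f : A, f ≠ 0 ∧ ∃ B : ℕ, ∀ (k : Type u) [Field k] [Algebra A k], algebraMap A k f ≠ 0 →
      ∀ v : ι → MvPolynomial σ k, (M.map (MvPolynomial.map (algebraMap A k))).mulVec v = 0 →
        v ∈ Submodule.span (MvPolynomial σ k) {w : ι → MvPolynomial σ k |
          (M.map (MvPolynomial.map (algebraMap A k))).mulVec w = 0 ∧ ∀ e, (w e).totalDegree ≤ B} := by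
  classical
  let S := MvPolynomial σ A
  have : Finite σ := inferInstance
  let L : (ι → S) →ₗ[S] (κ → S) := M.mulVecLin
  obtain ⟨c, hc, hfree, -⟩ := GenFreeRed.exists_isGood A S ((κ → S) ⧸ LinearMap.range L) 1 one_ne_zero
  rw [one_mul] at hc hfree
  have := hfree
  let A' := Localization.Away c
  have := FlatMisc.SpreadRed.free_baseChange c ((κ → S) ⧸ LinearMap.range L)
  let LA : (ι → S) →ₗ[A] (κ → S) := L.restrictScalars A
  let π : (κ → S) →ₗ[A] (κ → S) ⧸ LinearMap.range L := (LinearMap.range L).mkQ.restrictScalars A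
  have hex : Function.Exact LA π := L.exact_map_mkQ_range
  have hπ : Function.Surjective π := Submodule.mkQ_surjective (LinearMap.range L)
  obtain ⟨s, hLsL⟩ := exists_quasiInverse A' LA π hex hπ
  let L' := LA.baseChange A'
  obtain ⟨G, hG⟩ := (IsNoetherian.noetherian (LinearMap.ker L) : (LinearMap.ker L).FG)
  refine ⟨c, hc, G.sup fun g => Finset.univ.sup fun e => (g e).totalDegree, fun k _ _ hk v hv => ?_⟩
  obtain ⟨_, _⟩ := FlatMisc.SpreadRed.exists_algebra_away k c hk
  let Mk := M.map (MvPolynomial.map (algebraMap A k))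
  set T := Submodule.span (MvPolynomial σ k) {w : ι → MvPolynomial σ k | Mk.mulVec w = 0 ∧
    ∀ e, (w e).totalDegree ≤ G.sup fun g => Finset.univ.sup fun e => (g e).totalDegree}
  let rι : (ι → S) →ₗ[A] (ι → MvPolynomial σ k) :=
    (MvPolynomial.mapAlgHom (Algebra.ofId A k)).toLinearMap.compLeft ι
  let rκ : (κ → S) →ₗ[A] (κ → MvPolynomial σ k) :=
    (MvPolynomial.mapAlgHom (Algebra.ofId A k)).toLinearMap.compLeft κ
  have hrι : ∀ x e, rι x e = MvPolynomial.map (algebraMap A k) (x e) := fun x e => rfl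
  have hrκ : ∀ x e, rκ x e = MvPolynomial.map (algebraMap A k) (x e) := fun x e => rfl
  let Rι := rι.liftBaseChange A'
  let Rκ := rκ.liftBaseChange A'
  have hL : ∀ z, Rκ (L' z) = Mk.mulVec (Rι z) := by
    intro z
    induction z with
    | zero => simp
    | tmul a x =>
      show Rκ (a ⊗ₜ[A] (M.mulVec x)) = _
      rw [LinearMap.liftBaseChange_tmul, LinearMap.liftBaseChange_tmul, Matrix.mulVec_smul]
      congr 1
      funext e
      exact RingHom.map_mulVec (MvPolynomial.map (algebraMap A k)) M x e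
    | add x y hx hy => rw [map_add, map_add, hx, hy, map_add, Matrix.mulVec_add]
  let bκ := Pi.basis fun _ : κ => MvPolynomial.basisMonomials σ k
  let bκA := Pi.basis fun _ : κ => MvPolynomial.basisMonomials σ A
  let bι := Pi.basis fun _ : ι => MvPolynomial.basisMonomials σ k
  let bιA := Pi.basis fun _ : ι => MvPolynomial.basisMonomials σ A
  have hbκ : ∀ b, rκ (bκA b) = bκ b := fun b => by
    funext e
    rw [hrκ, Pi.basis_apply, Pi.basis_apply]
    by_cases he : e = b.1
    · subst he; simp
    · simp [he]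
  have hbι : ∀ b, rι (bιA b) = bι b := fun b => by
    funext e
    rw [hrι, Pi.basis_apply, Pi.basis_apply]
    by_cases he : e = b.1
    · subst he; simp
    · simp [he]
  let sk : (κ → MvPolynomial σ k) →ₗ[k] (ι → MvPolynomial σ k) :=
    bκ.constr k fun b => Rι (s (1 ⊗ₜ[A] bκA b))
  have hsk : ∀ z, Rι (s z) = sk (Rκ z) := by
    refine LinearMap.congr_fun ((bκA.baseChange A').ext fun b => ?_ :
      Rι.comp s = (sk.restrictScalars A').comp Rκ)
    rw [Module.Basis.baseChange_apply, LinearMap.comp_apply, LinearMap.comp_apply, LinearMap.liftBaseChange_tmul,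
      one_smul, hbκ, LinearMap.restrictScalars_apply, Module.Basis.constr_basis]
  have hker : ∀ z, L' z = 0 → Rι z ∈ T := by
    intro z hz
    have hex2 : Function.Exact ((LinearMap.ker L).subtype.restrictScalars A) LA := fun x =>
      ⟨fun hx => ⟨⟨x, hx⟩, rfl⟩, fun ⟨y, hy⟩ => hy ▸ y.2⟩
    obtain ⟨y, rfl⟩ := (Module.Flat.lTensor_exact A' hex2 z).1 hz
    induction y with
    | zero => simp
    | tmul a x =>
      show Rι (a ⊗ₜ[A] (x : ι → S)) ∈ T
      rw [LinearMap.liftBaseChange_tmul]
      refine T.smul_of_tower_mem a ?_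
      obtain ⟨x, hx⟩ := x
      clear hz
      suffices ∀ y ∈ Submodule.span (MvPolynomial σ A) (G : Set (ι → S)), rι y ∈ T from this x (hG ▸ hx)
      intro x hx
      induction hx using Submodule.span_induction with
      | mem g hg =>
        refine Submodule.subset_span ⟨?_, fun e => ?_⟩
        · have hgK : g ∈ LinearMap.ker L := hG ▸ Submodule.subset_span hg
          have h1 : M.mulVec g = 0 := hgK
          funext d
          show (M.map (MvPolynomial.map (algebraMap A k))).mulVec (MvPolynomial.map (algebraMap A k) ∘ g) d = 0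
          rw [← RingHom.map_mulVec, h1, Pi.zero_apply, map_zero]
        · exact (totalDegree_map_le _ _).trans ((Finset.le_sup (f := fun e => (g e).totalDegree) (Finset.mem_univ e)).trans
            (Finset.le_sup (f := fun g => Finset.univ.sup fun e => (g e).totalDegree) hg))
      | zero => simp
      | add x y _ _ ihx ihy => rw [map_add]; exact add_mem ihx ihy
      | smul q x _ ihx =>
        have : rι (q • x) = MvPolynomial.map (algebraMap A k) q • rι x := funext fun e => by
          simp [hrι]
        rw [this]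
        exact T.smul_mem _ ihx
    | add x y hx hy =>
      simp only [map_add] at hz ⊢
      exact add_mem (hx (by exact (Module.Flat.lTensor_exact A' hex2 _).2 ⟨x, rfl⟩))
        (hy (by exact (Module.Flat.lTensor_exact A' hex2 _).2 ⟨y, rfl⟩))
  let w := fun b => (1 : A') ⊗ₜ[A] bιA b - s (L' (1 ⊗ₜ[A] bιA b))
  have hw : ∀ b, Rι (w b) = bι b - sk (Mk.mulVec (bι b)) := fun b => by
    rw [map_sub, hsk, hL, LinearMap.liftBaseChange_tmul, one_smul, hbι]
  let P : (ι → MvPolynomial σ k) →ₗ[k] (ι → MvPolynomial σ k) :=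
    LinearMap.id - sk.comp (Mk.mulVecLin.restrictScalars k)
  have hP : ∀ u, P u ∈ T := by
    intro u
    have hu : u ∈ Submodule.span k (Set.range bι) := bι.mem_span u
    induction hu using Submodule.span_induction with
    | mem u hu =>
      obtain ⟨b, rfl⟩ := hu
      have : P (bι b) = Rι (w b) := by rw [hw]; rfl
      rw [this]
      exact hker _ (by rw [map_sub, hLsL, sub_self])
    | zero => simp
    | add x y _ _ hx hy => rw [map_add]; exact add_mem hx hy
    | smul q x _ hx => rw [map_smul]; exact T.smul_of_tower_mem q hx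
  have : P v = v := by simp [P, Mk, hv]
  exact this ▸ hP v

end Groth.Agent.RadBoundLib
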